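import Cfsg.Agent.USixType.Core
import Cfsg.Agent.USixType.Ext.Main
import Cfsg.Agent.USixType.Ext.Fixed.Main

/-!
# The recognition with the symplectic group above the core
-/

set_option autoImplicit false
set_option linter.style.haveILetI false

namespace Cfsg.Lib.USixType.Lin

open Subgroup

universe u v w

/-- The setting without the hypothesis on fixed vectors. -/
structure Setting {G : Type u} [Group G] (z : G) (J : Subgroup G) : Prop where
  order : orderOf z = 2
  le : J ≤ centralizer ({z} : Set G)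
  norm : centralizer ({z} : Set G) ≤ normalizer (J : Set G)
  extra : Cfsg.IsExtraspecial 2 ↥J
  card : Nat.card ↥J = 2 ^ 9
  mem : z ∈ J
  self : ∀ g ∈ centralizer ({z} : Set G), (∀ q ∈ J, g * q = q * g) → g ∈ J
  quot : ∀ (F : Type) [Field F] [Fintype F], Fintype.card F = 3 →
    ∃ f : ↥(centralizer ({z} : Set G)) →* Cfsg.PSp 2 F, Function.Surjective f ∧
      ∀ h, f h = 1 ↔ (h : G) ∈ J

/-- With a fixed vector there is no fusion. -/
def FixedGoal : Prop := ∀ {G : Type u} [Group G] [Finite G] {z : G} {J : Subgroup G}, Setting z J →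
  (∃ q ∈ J, q ∉ zpowers z ∧ ∀ h ∈ centralizer ({z} : Set G), h * q * h⁻¹ * q⁻¹ ∈ zpowers z) →
    ∀ g : G, Commute (g * z * g⁻¹) z → g * z * g⁻¹ = z

/-- The centraliser hypotheses give the setting. -/
theorem setting {G : Type u} [Group G] [Finite G] (z : G) (hz : orderOf z = 2)
    {F : Type v} [Field F] [Fintype F] (hF : Fintype.card F = 3)
    (hJ : Cfsg.IsExtraspecial 2 ↥(Cfsg.pCore 2 ↥(centralizer ({z} : Set G))))
    (hJc : Nat.card ↥(Cfsg.pCore 2 ↥(centralizer ({z} : Set G))) = 2 ^ 9)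
    (hCJ : centralizer ((Cfsg.pCore 2 ↥(centralizer ({z} : Set G))) : Set ↥(centralizer ({z} : Set G))) ≤
      Cfsg.pCore 2 ↥(centralizer ({z} : Set G)))
    [(Cfsg.pCore 2 ↥(centralizer ({z} : Set G))).Normal]
    (e : (↥(centralizer ({z} : Set G)) ⧸ Cfsg.pCore 2 ↥(centralizer ({z} : Set G))) ≃* Cfsg.PSp 2 F) :
    Setting z ((Cfsg.pCore 2 ↥(centralizer ({z} : Set G))).map (centralizer ({z} : Set G)).subtype) := by
  classical
  haveI : Fact (Nat.Prime 2) := ⟨Nat.prime_two⟩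
  set C := centralizer ({z} : Set G)
  set O := Cfsg.pCore 2 ↥C
  have hzC : z ∈ C := mem_centralizer_singleton_iff.2 rfl
  have hzO : (⟨z, hzC⟩ : ↥C) ∈ O := by
    have hn : (zpowers (⟨z, hzC⟩ : ↥C)).Normal := ⟨fun x hx h => by
      obtain ⟨n, rfl⟩ := hx
      refine ⟨n, ?_⟩
      show (⟨z, hzC⟩ : ↥C) ^ n = h * ⟨z, hzC⟩ ^ n * h⁻¹
      rw [((show Commute h (⟨z, hzC⟩ : ↥C) from Subtype.ext (mem_centralizer_singleton_iff.1 h.2)).zpow_right n).eq,
        mul_inv_cancel_right]⟩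
    refine Cfsg.Lib.Components.le_pCore (IsPGroup.of_card (n := 1) ?_) (mem_zpowers _)
    rw [Nat.card_zpowers, ← orderOf_injective C.subtype C.subtype_injective]
    exact hz.trans (pow_one 2).symm
  let eJ : ↥O ≃* ↥(O.map C.subtype) := O.equivMapOfInjective _ C.subtype_injective
  exact {
    order := hz
    le := Subgroup.map_subtype_le O
    norm := fun h hh => mem_normalizer_iff.2 fun q => by
      constructor
      · rintro ⟨p, hp, rfl⟩
        exact ⟨⟨h, hh⟩ * p * ⟨h, hh⟩⁻¹, Subgroup.Normal.conj_mem inferInstance p hp ⟨h, hh⟩, rfl⟩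
      · rintro ⟨p, hp, hpq⟩
        refine ⟨(⟨h, hh⟩ : ↥C)⁻¹ * p * ⟨h, hh⟩, ?_, ?_⟩
        · have := Subgroup.Normal.conj_mem inferInstance p hp (⟨h, hh⟩ : ↥C)⁻¹
          rwa [inv_inv] at this
        · show h⁻¹ * (p : G) * h = q
          rw [show (p : G) = h * q * h⁻¹ from hpq]
          group
    extra := Ext.extraspecial_congr eJ hJ
    card := by rw [← Nat.card_congr eJ.toEquiv]; exact hJc
    mem := ⟨⟨z, hzC⟩, hzO, rfl⟩
    self := fun g hg hq => ⟨⟨g, hg⟩, hCJ (Subgroup.mem_centralizer_iff.2 fun p hp =>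
      Subtype.ext (hq _ ⟨p, hp, rfl⟩).symm), rfl⟩
    quot := fun F' _ _ hF' => by
      obtain ⟨-, ⟨ψ⟩⟩ := Cfsg.Lib.Classical.FortyPoints.symplectic (K := F) hF
      obtain ⟨-, ⟨ψ'⟩⟩ := Cfsg.Lib.Classical.FortyPoints.symplectic (K := F') hF'
      refine ⟨((e.trans ψ).trans ψ'.symm).toMonoidHom.comp (QuotientGroup.mk' O),
        ((e.trans ψ).trans ψ'.symm).surjective.comp (QuotientGroup.mk'_surjective O), fun h => ?_⟩
      show ((e.trans ψ).trans ψ'.symm) (QuotientGroup.mk h) = 1 ↔ _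
      rw [MulEquiv.map_eq_one_iff, QuotientGroup.eq_one_iff]
      exact ⟨fun hh => ⟨h, hh, rfl⟩, fun ⟨p, hp, hpq⟩ => (Subtype.ext hpq : p = h) ▸ hp⟩ }

/-- With a fixed vector there is no fusion. -/
theorem fixedGoal : FixedGoal.{u} := by
  intro G _ _ z J S hq g hc
  obtain ⟨f0, hf0, hker⟩ := S.quot (ZMod 3) (ZMod.card 3)
  obtain ⟨e⟩ := equiv_forty (K := ZMod 3) (ZMod.card 3)
  let f : ↥(centralizer ({z} : Set G)) →* ↥U := e.symm.toMonoidHom.comp f0
  have hf : Function.Surjective f := e.symm.surjective.comp hf0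
  have hk : ∀ h, f h = 1 ↔ (h : G) ∈ J := fun h => by
    show e.symm (f0 h) = 1 ↔ _
    rw [MulEquiv.map_eq_one_iff, hker]
  have hU : center ↥U = ⊥ := by
    haveI := simple_U
    refine ((inferInstance : (center ↥U).Normal).eq_bot_or_eq_top).resolve_right fun h => ?_
    have hc := mem_center_iff.1 (h ▸ mem_top (⟨tvP 0, tvP_mem 0⟩ : ↥U)) ⟨tvP 1, tvP_mem 1⟩
    exact (show mulK (keyOf (tv (ctr 1))) (keyOf (tv (ctr 0))) ≠ mulK (keyOf (tv (ctr 0))) (keyOf (tv (ctr 1))) by
      decide +kernel) (by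
        have := congrArg (fun x : ↥U => key (x : Equiv.Perm Vt)) hc
        simpa only [Subgroup.coe_mul, key_mul (tvP_mem _), key_tvP] using this)
  let F : Ext.FixSetting z J (centralizer ({z} : Set G)) :=
    { order := S.order, card := S.card, extra := S.extra, mem := S.mem, le := S.le, inC := le_refl _
      norm := S.norm
      normI := le_normalizer
      self := S.self
      faithful := fun h hh hx => by
        rw [← hk ⟨h, hh⟩, ← Subgroup.mem_bot, ← hU, mem_center_iff]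
        intro y
        obtain ⟨x, rfl⟩ := hf y
        have hc := (hk (⟨h, hh⟩ * x * ⟨h, hh⟩⁻¹ * x⁻¹)).2 (hx x x.2)
        simp only [map_mul, map_inv, mul_inv_eq_one] at hc
        exact (mul_inv_eq_iff_eq_mul.1 hc).symm
      two := fun a ha b hb _ _ => mul_mem ha hb
      f := f, surj := hf, ker := hk, fixed := hq }
  exact F.no_fusion g hc


/-- The recognition, given the case of fixed vectors. -/
theorem linearGoal (hfix : FixedGoal.{u}) : Ext.LinearGoal.{u, v, w} := by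
  intro G _ _ z hz F _ _ hF K _ _ hK hJ hJc hCJ _ e
  have S := setting z hz hF hJ hJc hCJ e
  by_cases hg : ∃ g : G, Commute (g * z * g⁻¹) z ∧ g * z * g⁻¹ ≠ z
  · refine Or.inl ?_
    obtain ⟨g, hgc, hgne⟩ := hg
    have S' : NatSetting z _ := ⟨S.order, S.le, S.norm, S.extra, S.card, S.mem, S.self, S.quot, fun q hq hh => by
      by_contra hqz
      exact hgne (hfix S ⟨q, hq, hqz, hh⟩ g hgc)⟩
    obtain ⟨⟨eG⟩, -⟩ := coreGoal z _ S' ⟨g, hgc, hgne⟩
    obtain ⟨eK⟩ := model_psu K hK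
    exact ⟨eG.trans eK⟩
  · push Not at hg
    exact Or.inr (Ext.sup_oddCore ⟨hz, fun g hc => hg g hc.symm⟩)

end Cfsg.Lib.USixType.Lin
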